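import Groth.Agent.PicH127.Norm
import Groth.Agent.EGA43.SchDom
import Mathlib.FieldTheory.PurelyInseparable.Basic

/-!
# Units and torsion line bundles under a purely inseparable extension

After base change along a purely inseparable field extension, a `p`-power of every section over a
quasi-compact open comes from below.
-/

set_option autoImplicit false
set_option linter.style.haveILetI false
set_option backward.isDefEq.respectTransparency.types false
set_option backward.isDefEq.respectTransparency false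

universe u

open CategoryTheory CategoryTheory.Limits AlgebraicGeometry Opposite TopologicalSpace
open Groth.Agent.Coherent Groth.Agent.PicLib Groth.Agent.AmpleLib Groth.Agent.PicDef15 Groth.Agent.PicH127

namespace Groth.Agent.PicPI27

theorem subring_eq_top_of_isPushout {A B C D : CommRingCat.{u}} {a : A ⟶ B} {b : A ⟶ C} {c : B ⟶ D} {d : C ⟶ D}
    (h : IsPushout a b c d) (T : Subring D) (hc : ∀ x, c.hom x ∈ T) (hd : ∀ x, d.hom x ∈ T) : T = ⊤ := by
  let c' : B ⟶ CommRingCat.of T := CommRingCat.ofHom (c.hom.codRestrict T hc)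
  let d' : C ⟶ CommRingCat.of T := CommRingCat.ofHom (d.hom.codRestrict T hd)
  let incl : CommRingCat.of T ⟶ D := CommRingCat.ofHom T.subtype
  have w : a ≫ c' = b ≫ d' := CommRingCat.hom_ext (RingHom.ext fun x => Subtype.ext
    (ConcreteCategory.congr_hom h.w x))
  have hid : h.desc c' d' w ≫ incl = 𝟙 D := by
    refine h.hom_ext ?_ ?_
    · rw [← Category.assoc, h.inl_desc, Category.comp_id]; rfl
    · rw [← Category.assoc, h.inr_desc, Category.comp_id]; rfl
  refine eq_top_iff.2 fun z _ => ?_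
  have := ConcreteCategory.congr_hom hid z
  rw [show z = ((h.desc c' d' w).hom z).1 from this.symm]
  exact ((h.desc c' d' w).hom z).2

theorem sqComp {W A B C : Scheme.{u}} (g : W ⟶ A) (h : W ⟶ B) (a : A ⟶ C) (b : B ⟶ C) (e : g ≫ a = h ≫ b)
    (U : A.Opens) : a.appLE ⊤ U le_top ≫ g.app U = b.appTop ≫ h.appLE ⊤ (g ⁻¹ᵁ U) le_top := by
  rw [Scheme.Hom.app_eq_appLE, Scheme.Hom.appLE_comp_appLE]
  refine Eq.trans ?_ (Scheme.Hom.comp_appLE h b ⊤ (g ⁻¹ᵁ U) le_top)
  simp only [e]

variable {k k' : Type u} [Field k] [Field k'] [Algebra k k'] (p : ℕ) [Fact p.Prime] [CharP k p]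
  [IsPurelyInseparable k k'] {X : Scheme.{u}} (f : X ⟶ Spec (CommRingCat.of k))

variable (k') in
/-- The projection of the base change. -/
noncomputable abbrev bc : pullback f (Spec.map (CommRingCat.ofHom (algebraMap k k'))) ⟶ X := pullback.fst _ _

instance flat_bc : Flat (bc k' f) := by
  haveI : Flat (Spec.map (CommRingCat.ofHom (algebraMap k k'))) :=
    Flat.SpecMap_iff.2 (RingHom.flat_algebraMap_iff.2 inferInstance)
  exact MorphismProperty.pullback_fst _ _ inferInstance

instance surjective_bc : Surjective (bc k' f) := by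
  haveI : Surjective (Spec.map (CommRingCat.ofHom (algebraMap k k'))) :=
    ⟨fun x => ⟨(default : Spec (CommRingCat.of k')), Subsingleton.elim (α := Spec (CommRingCat.of k)) _ x⟩⟩
  exact MorphismProperty.pullback_fst _ _ inferInstance

instance isAffineHom_bc : IsAffineHom (bc k' f) := MorphismProperty.pullback_fst _ _ inferInstance

theorem app_injective (V : X.Opens) : Function.Injective ((bc k' f).app V) :=
  EGA43.app_injective_of_flat_surjective _ V

include p in
theorem pow_add (V : (pullback f (Spec.map (CommRingCat.ofHom (algebraMap k k')))).Opens)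
    (a b : Γ(pullback f (Spec.map (CommRingCat.ofHom (algebraMap k k'))), V)) (e : ℕ) :
    (a + b) ^ p ^ e = a ^ p ^ e + b ^ p ^ e := by
  have h0 : (p : Γ(pullback f (Spec.map (CommRingCat.ofHom (algebraMap k k'))), V)) = 0 := by
    have h := map_natCast (((pullback.snd f (Spec.map (CommRingCat.ofHom (algebraMap k k'))) ≫
      Spec.map (CommRingCat.ofHom (algebraMap k k'))).appLE ⊤ V le_top).hom.comp
        (Scheme.ΓSpecIso (CommRingCat.of k)).inv.hom) p
    rw [CharP.cast_eq_zero, map_zero] at h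
    exact h.symm
  rcases subsingleton_or_nontrivial Γ(pullback f (Spec.map (CommRingCat.ofHom (algebraMap k k'))), V) with h | h
  · exact Subsingleton.elim _ _
  · haveI := (CharP.charP_iff_prime_eq_zero (R := Γ(pullback f (Spec.map (CommRingCat.ofHom (algebraMap k k'))), V))
      Fact.out).2 h0
    exact add_pow_char_pow ..

/-- A `p`-power of `z` comes from `X`. -/
def InBase {V : X.Opens} (z : Γ(pullback f (Spec.map (CommRingCat.ofHom (algebraMap k k'))), bc k' f ⁻¹ᵁ V)) : Prop :=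
  ∃ (e : ℕ) (w : Γ(X, V)), (bc k' f).app V w = z ^ p ^ e

variable {p f}

theorem InBase.mono {V : X.Opens} {z : Γ(pullback f (Spec.map (CommRingCat.ofHom (algebraMap k k'))), bc k' f ⁻¹ᵁ V)}
    {e : ℕ} {w : Γ(X, V)} (h : (bc k' f).app V w = z ^ p ^ e) {e' : ℕ} (he : e ≤ e') :
    ∃ w' : Γ(X, V), (bc k' f).app V w' = z ^ p ^ e' := by
  obtain ⟨a, rfl⟩ := Nat.exists_eq_add_of_le he
  exact ⟨w ^ p ^ a, by rw [map_pow, h, ← pow_mul, ← Nat.pow_add]⟩

theorem inBase_affine {U : X.Opens} (hU : IsAffineOpen U)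
    (z : Γ(pullback f (Spec.map (CommRingCat.ofHom (algebraMap k k'))), bc k' f ⁻¹ᵁ U)) : InBase p f z := by
  let Z := pullback f (Spec.map (CommRingCat.ofHom (algebraMap k k')))
  let T : Subring Γ(Z, bc k' f ⁻¹ᵁ U) :=
    { carrier := {z | InBase p f z}
      one_mem' := ⟨0, 1, by simp⟩
      zero_mem' := ⟨0, 0, by simp⟩
      mul_mem' := by
        rintro a b ⟨e, w, h⟩ ⟨e', w', h'⟩
        obtain ⟨w₁, h₁⟩ := InBase.mono h (le_max_left e e')
        obtain ⟨w₂, h₂⟩ := InBase.mono h' (le_max_right e e')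
        exact ⟨max e e', w₁ * w₂, by rw [map_mul, h₁, h₂, mul_pow]⟩
      add_mem' := by
        rintro a b ⟨e, w, h⟩ ⟨e', w', h'⟩
        obtain ⟨w₁, h₁⟩ := InBase.mono h (le_max_left e e')
        obtain ⟨w₂, h₂⟩ := InBase.mono h' (le_max_right e e')
        exact ⟨max e e', w₁ + w₂, by rw [map_add, h₁, h₂, pow_add p f _ a b]⟩
      neg_mem' := by
        rintro a ⟨e, w, h⟩
        exact ⟨e, (-1) ^ p ^ e * w, by rw [map_mul, map_pow, map_neg, map_one, h, ← mul_pow, neg_one_mul]⟩ }
  have hp := (isIso_pushoutSection_iff (H := IsPullback.of_hasPullback f (Spec.map (CommRingCat.ofHom (algebraMap k k'))))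
      (US := ⊤) (UT := ⊤) (UX := U) (UY := bc k' f ⁻¹ᵁ U) le_top le_top
      (by rw [Scheme.Hom.preimage_top, inf_top_eq])).1
    (isIso_pushoutSection_of_isAffineOpen _ _ _ _ (isAffineOpen_top _) (isAffineOpen_top _) hU)
  refine (subring_eq_top_of_isPushout hp T (fun w => ⟨0, w, ?_⟩) (fun t => ?_)).ge (Subring.mem_top z)
  · rw [pow_zero, pow_one, Scheme.Hom.app_eq_appLE]
  · obtain ⟨e, a, ha⟩ := IsPurelyInseparable.pow_mem k p ((Scheme.ΓSpecIso (CommRingCat.of k')).hom t)
    refine ⟨e, (f.appLE ⊤ U le_top).hom ((Scheme.ΓSpecIso (CommRingCat.of k)).inv a), ?_⟩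
    have ht : t ^ p ^ e = (Spec.map (CommRingCat.ofHom (algebraMap k k'))).appTop
        ((Scheme.ΓSpecIso (CommRingCat.of k)).inv a) := by
      refine (ConcreteCategory.bijective_of_isIso (Scheme.ΓSpecIso (CommRingCat.of k')).hom).1 ?_
      rw [map_pow]
      refine ha.symm.trans ?_
      have := ConcreteCategory.congr_hom (Scheme.ΓSpecIso_naturality (CommRingCat.ofHom (algebraMap k k')))
        ((Scheme.ΓSpecIso (CommRingCat.of k)).inv a)
      refine (Eq.trans ?_ this.symm)
      exact congrArg (algebraMap k k') (ConcreteCategory.congr_hom (Scheme.ΓSpecIso (CommRingCat.of k)).inv_hom_id a).symm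
    have heq := sqComp (bc k' f) (pullback.snd f (Spec.map (CommRingCat.ofHom (algebraMap k k')))) f
      (Spec.map (CommRingCat.ofHom (algebraMap k k'))) pullback.condition U
    rw [← map_pow, ht]
    exact ConcreteCategory.congr_hom heq ((Scheme.ΓSpecIso (CommRingCat.of k)).inv a)

theorem app_res {U V : X.Opens} (h : V ≤ U) (w : Γ(X, U)) :
    (bc k' f).app V (PicLib.res h w) = PicLib.res ((bc k' f).preimage_mono h) ((bc k' f).app U w) :=
  ConcreteCategory.congr_hom ((bc k' f).naturality (homOfLE h).op) w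

theorem inBase_compact {V : X.Opens} (hV : IsCompact (V : Set X))
    (z : Γ(pullback f (Spec.map (CommRingCat.ofHom (algebraMap k k'))), bc k' f ⁻¹ᵁ V)) : InBase p f z := by
  classical
  obtain ⟨s, hs, hVs⟩ := isCompact_iff_finite_and_eq_biUnion_affineOpens.1 hV
  haveI := hs.fintype
  have hle : ∀ i : s, (i.1.1 : X.Opens) ≤ V := fun i => hVs ▸ le_iSup₂_of_le i.1 i.2 le_rfl
  choose e w hw using fun i : s => inBase_affine (p := p) i.1.2 (PicLib.res ((bc k' f).preimage_mono (hle i)) z)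
  choose w' hw' using fun i : s => InBase.mono (hw i) (Finset.single_le_sum (f := e) (fun j _ => Nat.zero_le (e j))
    (Finset.mem_univ i))
  obtain ⟨W, hW, -⟩ := TopCat.Sheaf.existsUnique_gluing' X.sheaf (fun i : s => (i.1.1 : X.Opens)) V
    (fun i => homOfLE (hle i)) (by rw [hVs, iSup_subtype']) w' fun i j => by
      refine app_injective (k' := k') f _ ?_
      show (bc k' f).app _ (PicLib.res inf_le_left (w' i)) = (bc k' f).app _ (PicLib.res inf_le_right (w' j))
      rw [app_res, app_res, hw', hw', map_pow, map_pow, PicLib.res_res, PicLib.res_res]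
  refine ⟨∑ i, e i, W, TopCat.Sheaf.eq_of_locally_eq' (pullback f _).sheaf (fun i : s => bc k' f ⁻¹ᵁ i.1.1) _
    (fun i => homOfLE ((bc k' f).preimage_mono (hle i))) (by rw [← Scheme.Hom.preimage_iSup, hVs, iSup_subtype']) _ _
    fun i => ?_⟩
  show PicLib.res _ ((bc k' f).app V W) = PicLib.res _ (z ^ p ^ ∑ i, e i)
  rw [← app_res (hle i), map_pow, ← hw' i]
  exact congrArg _ (hW i)

theorem ofU_nsmul {Z : Scheme.{u}} {g : Z ⟶ X} {U : X.Opens} (s : (PU g).obj.obj (op U)) (n : ℕ) :
    ofU g (n • s) = ofU g s ^ n := by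
  induction n with
  | zero => rw [zero_smul, pow_zero]; rfl
  | succ n ih => rw [succ_nsmul, pow_succ, ← ih]; rfl

theorem comap_injective (V : X.Opens) : Function.Injective ((comap' (bc k' f)).hom.app (op V)) := fun s t h => by
  refine ofU_injective (𝟙 X) V (Units.ext (app_injective (k' := k') f V ?_))
  exact ((ofU_comap (bc k' f) s).symm.trans (congrArg (fun q => (ofU (bc k' f) q).val) h)).trans (ofU_comap (bc k' f) t)

variable (p) in
theorem exists_pow_unit {V : X.Opens} (hV : IsCompact (V : Set X)) (v : (PU (bc k' f)).obj.obj (op V)) :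
    ∃ (e : ℕ) (w : (PU (𝟙 X)).obj.obj (op V)), (comap' (bc k' f)).hom.app (op V) w = p ^ e • v := by
  obtain ⟨e₁, w₁, h₁⟩ := inBase_compact (p := p) hV (ofU (bc k' f) v).val
  obtain ⟨e₂, w₂, h₂⟩ := inBase_compact (p := p) hV (ofU (bc k' f) v).inv
  obtain ⟨a, ha⟩ := InBase.mono h₁ (le_max_left e₁ e₂)
  obtain ⟨b, hb⟩ := InBase.mono h₂ (le_max_right e₁ e₂)
  have hab : a * b = 1 := app_injective (k' := k') f V (by rw [map_mul, ha, hb, ← mul_pow, Units.val_inv, one_pow, map_one])
  refine ⟨max e₁ e₂, toU (𝟙 X) (U := V) (Units.mkOfMulEqOne a b hab), ofU_injective _ V (Units.ext ?_)⟩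
  rw [ofU_comap, ofU_nsmul, Units.val_pow_eq_pow_val, ← ha]
  rfl

variable (k' p f) in
include p in
/-- Line bundles trivialise on preimages of opens of `X`. -/
theorem hasTriv : HasTriv (bc k' f) := fun L hL => by
  have key : ∀ x : X, ∃ (W : X.Opens) (t : Γ(L, bc k' f ⁻¹ᵁ W)), IsGen L _ t ∧ x ∈ W := fun x => by
    obtain ⟨y, rfl⟩ := (bc k' f).surjective x
    obtain ⟨U', hyU', s, hs⟩ := exists_isGen hL y
    obtain ⟨_, ⟨U, hU, rfl⟩, hxU, -⟩ :=
      X.isBasis_affineOpens.exists_subset_of_mem_open (Set.mem_univ (bc k' f y)) isOpen_univ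
    obtain ⟨z, hzle, hyz⟩ := (hU.preimage (bc k' f)).exists_basicOpen_le (V := U') ⟨y, hyU'⟩ hxU
    obtain ⟨e, w, hw⟩ := inBase_affine (p := p) hU z
    have he : bc k' f ⁻¹ᵁ X.basicOpen w = (pullback f _).basicOpen z := by
      rw [Scheme.preimage_basicOpen, hw, Scheme.basicOpen_pow _ _ (pow_pos (Fact.out : p.Prime).pos e)]
    exact ⟨X.basicOpen w, resM L (he.trans_le hzle) s, hs.restrict _,
      (show y ∈ bc k' f ⁻¹ᵁ X.basicOpen w from he.ge hyz)⟩
  choose W t ht hx using key
  exact ⟨X, W, top_le_iff.1 fun x _ => Opens.mem_iSup.2 ⟨x, hx x⟩, t, ht⟩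

theorem isClass_nsmul {T : TopCat.{u}} {F : CohTop.Ab T} {ι : Type u} {W : ι → Opens T}
    {c : ∀ i j, F.obj.obj (op (W i ⊓ W j))} {ξ} (h : IsClass W c ξ) :
    ∀ n : ℕ, IsClass W (fun i j => n • c i j) (n • ξ)
  | 0 => by
    have h0 := isClass_coboundary (F := F) h.1 (W := W) fun _ => 0
    simp only [map_zero, sub_zero] at h0
    simpa only [zero_smul] using h0
  | n + 1 => by
    simpa only [succ_nsmul] using (isClass_nsmul h n).add h

variable [CompactSpace X] [QuasiSeparatedSpace X]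

variable (k') in
/-- Torsion invertible modules prime to `p` descend. -/
theorem exists_descent {n : ℕ} (hn : ¬ p ∣ n)
    {M : (pullback f (Spec.map (CommRingCat.ofHom (algebraMap k k')))).Modules} (hM : PicF.IsInvertible M)
    (hMn : Nonempty (CohB1.tensorPow M n ≅ Coh.structureModule _)) :
    ∃ L : X.Modules, PicF.IsInvertible L ∧ Nonempty (CohB1.tensorPow L n ≅ Coh.structureModule X) ∧
      Nonempty ((Scheme.Modules.pullback (bc k' f)).obj L ≅ M) := by
  classical
  obtain ⟨ξ, hξ⟩ := exists_rel (hasTriv k' p f) hM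
  have hnξ : n • ξ = 0 := (rel_tensorPow hξ n).trivial_iff.1 hMn
  obtain ⟨ι₀, W₀, s₀, c₀, hs₀, hc₀, hcl₀⟩ := hξ
  -- finitely many affine opens
  have hW : ∀ x : X, ∃ (i : ι₀) (U : X.Opens), IsAffineOpen U ∧ U ≤ W₀ i ∧ x ∈ U := fun x => by
    obtain ⟨i, hi⟩ := Opens.mem_iSup.1 (show x ∈ iSup W₀ from hcl₀.1.ge trivial)
    obtain ⟨_, ⟨U, hU, rfl⟩, hxU, hUW⟩ := X.isBasis_affineOpens.exists_subset_of_mem_open hi (W₀ i).isOpen
    exact ⟨i, U, hU, hUW, hxU⟩
  choose ρ U hU hUW hxU using hW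
  obtain ⟨t, ht⟩ := isCompact_univ.elim_finite_subcover (fun x => (U x : Set X)) (fun x => (U x).isOpen)
    fun x _ => Set.mem_iUnion.2 ⟨x, hxU x⟩
  have hcov : iSup (fun x : t => U x) = ⊤ := top_le_iff.1 fun x _ => by
    obtain ⟨y, hy, hxy⟩ := Set.mem_iUnion₂.1 (ht (Set.mem_univ x))
    exact Opens.mem_iSup.2 ⟨⟨y, hy⟩, hxy⟩
  have hcl := hcl₀.refine hcov (fun x : t => ρ x) (fun x => hUW x)
  set W : t → X.Opens := fun x => U x
  set c := fun x y : t => resA (PU (bc k' f)) (inf_le_inf (hUW x) (hUW y)) (c₀ (ρ x) (ρ y))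
  obtain ⟨h, hh⟩ := (isClass_nsmul hcl n).eq_zero_iff.1 hnξ
  have hWij : ∀ x y : t, IsCompact ((W x ⊓ W y : X.Opens) : Set X) := fun x y =>
    QuasiSeparatedSpace.inter_isCompact _ _ (W x).isOpen (hU x).isCompact (W y).isOpen (hU y).isCompact
  choose e₁ a₁ ha₁ using fun x y => exists_pow_unit p (hWij x y) (c x y)
  choose e₂ b₂ hb₂ using fun x => exists_pow_unit p (hU x.1).isCompact (h x)
  let E := (∑ x, ∑ y, e₁ x y) + ∑ x, e₂ x
  have up : ∀ {V : X.Opens} {e : ℕ} {v : (PU (bc k' f)).obj.obj (op V)} {w : (PU (𝟙 X)).obj.obj (op V)},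
      (comap' (bc k' f)).hom.app (op V) w = p ^ e • v → e ≤ E →
        ∃ w', (comap' (bc k' f)).hom.app (op V) w' = p ^ E • v := fun {V e v w} hw he => by
    obtain ⟨d, hd⟩ := Nat.exists_eq_add_of_le he
    exact ⟨p ^ d • w, by rw [map_nsmul, hw, smul_smul, hd, Nat.pow_add, mul_comm]⟩
  choose a ha using fun x y => up (ha₁ x y) (le_add_of_le_left
    ((Finset.single_le_sum (f := e₁ x) (fun j _ => Nat.zero_le _) (Finset.mem_univ y)).trans
      (Finset.single_le_sum (f := fun x => ∑ y, e₁ x y) (fun j _ => Nat.zero_le _) (Finset.mem_univ x))))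
  choose b hb using fun x => up (hb₂ x) (le_add_of_le_right
    (Finset.single_le_sum (f := e₂) (fun j _ => Nat.zero_le _) (Finset.mem_univ x)))
  have hacoc : IsCocycle W a := fun x y z V hx hy hz => by
    refine comap_injective (k' := k') (f := f) V ?_
    rw [map_add, resA_app, resA_app, resA_app, ha, ha, ha, map_nsmul, map_nsmul, map_nsmul, ← smul_add,
      hcl.isCocycle x y z V hx hy hz]
  obtain ⟨η, hη⟩ := exists_class hcov hacoc
  have hmap : Sheaf.H.map (comap' (bc k' f)) 1 η = p ^ E • ξ := by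
    refine (hη.map (comap' (bc k' f))).unique ?_
    have := isClass_nsmul hcl (p ^ E)
    rwa [show (fun x y => (comap' (bc k' f)).hom.app _ (a x y)) = fun x y => p ^ E • c x y from
      funext₂ ha]
  have hnη : n • η = 0 := (isClass_nsmul hη n).eq_zero_iff.2 ⟨b, fun x y => by
    refine comap_injective (k' := k') (f := f) _ ?_
    rw [map_nsmul, ha, map_sub, resA_app, resA_app, hb, hb, map_nsmul, map_nsmul, ← smul_sub, ← hh,
      smul_smul, smul_smul, mul_comm]⟩
  obtain ⟨u, v, huv⟩ : ∃ u v : ℤ, u * ((p ^ E : ℕ) : ℤ) + v * (n : ℤ) = 1 := by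
    have hcop : Nat.Coprime (p ^ E) n := ((Fact.out : p.Prime).coprime_iff_not_dvd.2 hn).pow_left E
    exact Int.isCoprime_iff_gcd_eq_one.2 (by rw [Int.gcd_natCast_natCast]; exact hcop)
  obtain ⟨L, hL, hLr⟩ := exists_of_class (𝟙 X) (u • η)
  refine ⟨L, hL, (rel_tensorPow hLr n).trivial_iff.2 (by rw [smul_comm, hnη, smul_zero]), ?_⟩
  refine (hLr.pull hL).nonempty_iso ?_
  rw [map_zsmul, hmap, ← natCast_zsmul, smul_smul]
  have : (u * ((p ^ E : ℕ) : ℤ)) • ξ = ξ := by
    rw [eq_sub_of_add_eq huv, sub_smul, one_smul, mul_smul, natCast_zsmul, hnξ, smul_zero, sub_zero]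
  rw [this]
  exact ⟨ι₀, W₀, s₀, c₀, hs₀, hc₀, hcl₀⟩

end Groth.Agent.PicPI27
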